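import Mathlib

/-! # Effective Cartier divisors with locally proportional powers (S17732)

If `D`, `E` are effective Cartier divisors on a Noetherian scheme with connected union of supports and
locally `D^m = E^n` for some `(m, n) ≠ (0, 0)`, then globally `D^m = E^n` for some `(m, n) ≠ (0, 0)`.
-/

set_option autoImplicit false
noncomputable section
universe u
open CategoryTheory AlgebraicGeometry TopologicalSpace Opposite

namespace Groth.Agent.LD.CDivPow

section Ring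

variable {R : Type*} [CommRing R]

lemma isUnit_of_span_pow_eq (g : R) (hg : g ∈ nonZeroDivisors R) {a b : ℕ} (hab : a < b)
    (h : Ideal.span {g} ^ a = Ideal.span {g} ^ b) : IsUnit g := by
  obtain ⟨d, rfl⟩ : ∃ d, b = a + d + 1 := Nat.exists_eq_add_of_lt hab
  rw [Ideal.span_singleton_pow, Ideal.span_singleton_pow] at h
  have h1 : g ^ a ∈ Ideal.span {g ^ (a + d + 1)} := by
    rw [← h]
    exact Ideal.mem_span_singleton_self _
  obtain ⟨c, hc⟩ := Ideal.mem_span_singleton'.1 h1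
  have h2 : g ^ a * (c * g ^ (d + 1)) = g ^ a * 1 := by
    have e : c * g ^ (a + d + 1) = g ^ a * (c * g ^ (d + 1)) := by
      rw [add_assoc, pow_add]
      ring
    rw [← e, hc, mul_one]
  have h3 : c * g ^ (d + 1) = 1 := (mul_cancel_left_mem_nonZeroDivisors (pow_mem hg a)).1 h2
  refine IsUnit.of_mul_eq_one (c * g ^ d) ?_
  rw [← h3, pow_succ]
  ring

lemma isUnit_of_span_pow_eq_of_ne (g : R) (hg : g ∈ nonZeroDivisors R) {a b : ℕ} (hab : a ≠ b)
    (h : Ideal.span {g} ^ a = Ideal.span {g} ^ b) : IsUnit g := by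
  rcases lt_or_gt_of_ne hab with h1 | h1
  · exact isUnit_of_span_pow_eq g hg h1 h
  · exact isUnit_of_span_pow_eq g hg h1 h.symm

/-- two non-proportional power relations between principal ideals generated by non-zero-divisors
force both generators to be units. -/
lemma isUnit_and_isUnit (g h : R) (hg : g ∈ nonZeroDivisors R) (hh : h ∈ nonZeroDivisors R)
    {I J : Ideal R} (hI : I = Ideal.span {g}) (hJ : J = Ideal.span {h})
    {m n m' n' : ℕ} (h1 : I ^ m = J ^ n) (h2 : I ^ m' = J ^ n') (hne : m * n' ≠ m' * n) :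
    IsUnit g ∧ IsUnit h := by
  subst hI hJ
  constructor
  · refine isUnit_of_span_pow_eq_of_ne g hg hne ?_
    calc Ideal.span {g} ^ (m * n') = (Ideal.span {g} ^ m) ^ n' := pow_mul _ _ _
      _ = (Ideal.span {h} ^ n) ^ n' := by rw [h1]
      _ = (Ideal.span {h} ^ n') ^ n := by rw [← pow_mul, ← pow_mul, mul_comm]
      _ = (Ideal.span {g} ^ m') ^ n := by rw [h2]
      _ = Ideal.span {g} ^ (m' * n) := (pow_mul _ _ _).symm
  · have hne' : n * m' ≠ n' * m := by
      intro e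
      apply hne
      rw [mul_comm m n', ← e, mul_comm]
    refine isUnit_of_span_pow_eq_of_ne h hh hne' ?_
    calc Ideal.span {h} ^ (n * m') = (Ideal.span {h} ^ n) ^ m' := pow_mul _ _ _
      _ = (Ideal.span {g} ^ m) ^ m' := by rw [h1]
      _ = (Ideal.span {g} ^ m') ^ m := by rw [← pow_mul, ← pow_mul, mul_comm]
      _ = (Ideal.span {h} ^ n') ^ m := by rw [h2]
      _ = Ideal.span {h} ^ (n' * m) := (pow_mul _ _ _).symm

lemma par_trans {m n m' n' m₀ n₀ : ℕ} (hne : (m, n) ≠ (0, 0)) (h1 : m * n₀ = m₀ * n)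
    (h2 : m * n' = m' * n) : m' * n₀ = m₀ * n' := by
  rcases Nat.eq_zero_or_pos m with hm | hm
  · subst hm
    have hn : n ≠ 0 := by
      intro hn
      apply hne
      rw [hn]
    have hm0 : m₀ = 0 := by
      rcases Nat.eq_zero_or_pos m₀ with h | h
      · exact h
      · exfalso
        have : 0 < m₀ * n := Nat.mul_pos h (Nat.pos_of_ne_zero hn)
        omega
    have hm' : m' = 0 := by
      rcases Nat.eq_zero_or_pos m' with h | h
      · exact h
      · exfalso
        have : 0 < m' * n := Nat.mul_pos h (Nat.pos_of_ne_zero hn)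
        omega
    rw [hm0, hm']
    simp
  · apply Nat.eq_of_mul_eq_mul_left hm
    calc m * (m' * n₀) = m' * (m * n₀) := by ring
      _ = m' * (m₀ * n) := by rw [h1]
      _ = m₀ * (m' * n) := by ring
      _ = m₀ * (m * n') := by rw [h2]
      _ = m * (m₀ * n') := by ring

end Ring

variable {X : Scheme.{u}}

/-- the stalk ideal of an ideal sheaf, computed on an affine open neighbourhood. -/
def stalkIdeal (I : X.IdealSheafData) (U : X.affineOpens) (x : X) (hx : x ∈ U.1) :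
    Ideal (X.presheaf.stalk x) :=
  (I.ideal U).map (X.presheaf.germ U.1 x hx).hom

lemma stalkIdeal_eq_of_le (I : X.IdealSheafData) {U V : X.affineOpens} (h : U ≤ V) (x : X)
    (hx : x ∈ U.1) : stalkIdeal I U x hx = stalkIdeal I V x (h hx) := by
  unfold stalkIdeal
  rw [← I.map_ideal h, Ideal.map_map]
  congr 1
  rw [← CommRingCat.hom_comp]
  exact congrArg CommRingCat.Hom.hom (X.presheaf.germ_res (homOfLE h) x hx)

lemma stalkIdeal_indep (I : X.IdealSheafData) (U V : X.affineOpens) (x : X)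
    (hU : x ∈ U.1) (hV : x ∈ V.1) : stalkIdeal I U x hU = stalkIdeal I V x hV := by
  obtain ⟨W, hW, hxW, hWUV⟩ :=
    exists_isAffineOpen_mem_and_subset (x := x) (U := U.1 ⊓ V.1) ⟨hU, hV⟩
  let W' : X.affineOpens := ⟨W, hW⟩
  have h1 : W' ≤ U := fun y hy => (show y ∈ U.1 ∧ y ∈ V.1 from hWUV hy).1
  have h2 : W' ≤ V := fun y hy => (show y ∈ U.1 ∧ y ∈ V.1 from hWUV hy).2
  have e1 := stalkIdeal_eq_of_le I h1 x hxW
  have e2 := stalkIdeal_eq_of_le I h2 x hxW
  exact e1.symm.trans e2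

/-- the local relation `D^m = E^n` near `x`. -/
def Rel (D E : X.IdealSheafData) (m n : ℕ) (x : X) : Prop :=
  ∃ U : X.affineOpens, x ∈ U.1 ∧ D.ideal U ^ m = E.ideal U ^ n

lemma isOpen_setOf_rel (D E : X.IdealSheafData) (P : ℕ → ℕ → Prop) :
    IsOpen {x : X | ∃ m n : ℕ, P m n ∧ Rel D E m n x} := by
  rw [isOpen_iff_forall_mem_open]
  rintro x ⟨m, n, hP, U, hxU, hU⟩
  exact ⟨U.1, fun y hy => ⟨m, n, hP, U, hy, hU⟩, U.1.isOpen, hxU⟩

lemma stalk_of_rel {D E : X.IdealSheafData} {m n : ℕ} {x : X} (h : Rel D E m n x)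
    (V : X.affineOpens) (hV : x ∈ V.1) :
    stalkIdeal D V x hV ^ m = stalkIdeal E V x hV ^ n := by
  obtain ⟨U, hxU, hU⟩ := h
  rw [stalkIdeal_indep D V U x hV hxU, stalkIdeal_indep E V U x hV hxU]
  unfold stalkIdeal
  rw [← Ideal.map_pow, ← Ideal.map_pow, hU]

lemma germ_mem_nonZeroDivisors {U : X.affineOpens} (x : X) (hx : x ∈ U.1) (g : Γ(X, U.1))
    (hg : g ∈ nonZeroDivisors Γ(X, U.1)) :
    (X.presheaf.germ U.1 x hx).hom g ∈ nonZeroDivisors (X.presheaf.stalk x) := by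
  letI : Algebra Γ(X, U.1) (X.presheaf.stalk x) :=
    TopCat.Presheaf.algebra_section_stalk X.presheaf ⟨x, hx⟩
  haveI : IsLocalization.AtPrime (X.presheaf.stalk x) (U.2.primeIdealOf ⟨x, hx⟩).asIdeal :=
    U.2.isLocalization_stalk ⟨x, hx⟩
  exact IsLocalization.map_nonZeroDivisors_le (U.2.primeIdealOf ⟨x, hx⟩).asIdeal.primeCompl
    (X.presheaf.stalk x) (Submonoid.mem_map_of_mem _ hg)

/-- at a point of the union of the supports, two local relations are proportional. -/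
lemma rel_par (D E : X.IdealSheafData)
    (hD : ∀ x : X, ∃ U : X.affineOpens, x ∈ (U : X.Opens) ∧ ∃ g : Γ(X, U),
      g ∈ nonZeroDivisors Γ(X, U) ∧ D.ideal U = Ideal.span {g})
    (hE : ∀ x : X, ∃ U : X.affineOpens, x ∈ (U : X.Opens) ∧ ∃ g : Γ(X, U),
      g ∈ nonZeroDivisors Γ(X, U) ∧ E.ideal U = Ideal.span {g})
    (x : X) (hx : x ∈ (D.support : Set X) ∪ (E.support : Set X))
    {m n m' n' : ℕ} (h1 : Rel D E m n x) (h2 : Rel D E m' n' x) : m * n' = m' * n := by
  by_contra hne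
  obtain ⟨U₁, hx₁, g, hg, hDg⟩ := hD x
  obtain ⟨U₂, hx₂, h, hh, hEh⟩ := hE x
  have eD : stalkIdeal D U₁ x hx₁ = Ideal.span {(X.presheaf.germ U₁.1 x hx₁).hom g} := by
    unfold stalkIdeal
    rw [hDg, Ideal.map_span, Set.image_singleton]
  have eE : stalkIdeal E U₁ x hx₁ = Ideal.span {(X.presheaf.germ U₂.1 x hx₂).hom h} := by
    rw [stalkIdeal_indep E U₁ U₂ x hx₁ hx₂]
    unfold stalkIdeal
    rw [hEh, Ideal.map_span, Set.image_singleton]
  obtain ⟨ug, uh⟩ := isUnit_and_isUnit _ _ (germ_mem_nonZeroDivisors x hx₁ g hg)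
    (germ_mem_nonZeroDivisors x hx₂ h hh) eD eE (stalk_of_rel h1 U₁ hx₁) (stalk_of_rel h2 U₁ hx₁) hne
  rcases hx with hxD | hxE
  · have h3 := (Scheme.IdealSheafData.mem_support_iff_of_mem (I := D) (U := U₁) hx₁).1 hxD
    rw [Scheme.mem_zeroLocus_iff] at h3
    refine h3 g ?_ ((Scheme.mem_basicOpen X g x hx₁).2 ug)
    rw [hDg]
    exact Ideal.mem_span_singleton_self g
  · have h3 := (Scheme.IdealSheafData.mem_support_iff_of_mem (I := E) (U := U₂) hx₂).1 hxE
    rw [Scheme.mem_zeroLocus_iff] at h3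
    refine h3 h ?_ ((Scheme.mem_basicOpen X h x hx₂).2 uh)
    rw [hEh]
    exact Ideal.mem_span_singleton_self h

/-- by connectedness all local relations on the union of the supports are proportional to a fixed one. -/
lemma rel_par_fixed (D E : X.IdealSheafData)
    (hD : ∀ x : X, ∃ U : X.affineOpens, x ∈ (U : X.Opens) ∧ ∃ g : Γ(X, U),
      g ∈ nonZeroDivisors Γ(X, U) ∧ D.ideal U = Ideal.span {g})
    (hE : ∀ x : X, ∃ U : X.affineOpens, x ∈ (U : X.Opens) ∧ ∃ g : Γ(X, U),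
      g ∈ nonZeroDivisors Γ(X, U) ∧ E.ideal U = Ideal.span {g})
    (hconn : _root_.IsPreconnected ((D.support : Set X) ∪ (E.support : Set X)))
    (hloc : ∀ x : X, ∃ m n : ℕ, (m, n) ≠ (0, 0) ∧ Rel D E m n x)
    (x₀ : X) (hx₀ : x₀ ∈ (D.support : Set X) ∪ (E.support : Set X))
    {m₀ n₀ : ℕ} (h₀ : Rel D E m₀ n₀ x₀)
    (x : X) (hx : x ∈ (D.support : Set X) ∪ (E.support : Set X))
    {m n : ℕ} (hmn : (m, n) ≠ (0, 0)) (h : Rel D E m n x) : m * n₀ = m₀ * n := by
  by_contra hne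
  have hA := isOpen_setOf_rel D E (fun m n => (m, n) ≠ (0, 0) ∧ m * n₀ = m₀ * n)
  have hB := isOpen_setOf_rel D E (fun m n => (m, n) ≠ (0, 0) ∧ m * n₀ ≠ m₀ * n)
  have hcov : (D.support : Set X) ∪ (E.support : Set X) ⊆
      {x : X | ∃ m n : ℕ, ((m, n) ≠ (0, 0) ∧ m * n₀ = m₀ * n) ∧ Rel D E m n x} ∪
        {x : X | ∃ m n : ℕ, ((m, n) ≠ (0, 0) ∧ m * n₀ ≠ m₀ * n) ∧ Rel D E m n x} := by
    intro y _
    obtain ⟨a, b, hab, hr⟩ := hloc y
    by_cases hp : a * n₀ = m₀ * b
    · exact Or.inl ⟨a, b, ⟨hab, hp⟩, hr⟩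
    · exact Or.inr ⟨a, b, ⟨hab, hp⟩, hr⟩
  obtain ⟨a₀, b₀, hab₀, hr₀⟩ := hloc x₀
  have hne1 : (((D.support : Set X) ∪ (E.support : Set X)) ∩
      {x : X | ∃ m n : ℕ, ((m, n) ≠ (0, 0) ∧ m * n₀ = m₀ * n) ∧ Rel D E m n x}).Nonempty :=
    ⟨x₀, hx₀, a₀, b₀, ⟨hab₀, rel_par D E hD hE x₀ hx₀ hr₀ h₀⟩, hr₀⟩
  have hne2 : (((D.support : Set X) ∪ (E.support : Set X)) ∩
      {x : X | ∃ m n : ℕ, ((m, n) ≠ (0, 0) ∧ m * n₀ ≠ m₀ * n) ∧ Rel D E m n x}).Nonempty :=
    ⟨x, hx, m, n, ⟨hmn, hne⟩, h⟩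
  obtain ⟨y, hyS, ⟨a, b, ⟨hab, hpar⟩, hr⟩, ⟨a', b', ⟨_, hnpar⟩, hr'⟩⟩ :=
    hconn _ _ hA hB hcov hne1 hne2
  exact hnpar (par_trans hab hpar (rel_par D E hD hE y hyS hr hr'))

/-- **S17732.** -/
theorem main (X : Scheme.{u}) [IsNoetherian X] (D E : X.IdealSheafData)
    (hD : ∀ x : X, ∃ U : X.affineOpens, x ∈ (U : X.Opens) ∧ ∃ g : Γ(X, U),
      g ∈ nonZeroDivisors Γ(X, U) ∧ D.ideal U = Ideal.span {g})
    (hE : ∀ x : X, ∃ U : X.affineOpens, x ∈ (U : X.Opens) ∧ ∃ g : Γ(X, U),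
      g ∈ nonZeroDivisors Γ(X, U) ∧ E.ideal U = Ideal.span {g})
    (hconn : _root_.IsPreconnected ((D.support : Set X) ∪ (E.support : Set X)))
    (hloc : ∀ x : X, ∃ U : X.affineOpens, x ∈ (U : X.Opens) ∧
      ∃ m n : ℕ, (m, n) ≠ (0, 0) ∧ D.ideal U ^ m = E.ideal U ^ n) :
    ∃ m n : ℕ, (m, n) ≠ (0, 0) ∧ ∀ U : X.affineOpens, D.ideal U ^ m = E.ideal U ^ n := by
  by_cases hS : ((D.support : Set X) ∪ (E.support : Set X)).Nonempty
  swap
  · have hS' := Set.not_nonempty_iff_eq_empty.1 hS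
    have hDt : D = ⊤ := by
      rw [← Scheme.IdealSheafData.support_eq_bot_iff]
      apply SetLike.coe_injective
      apply Set.eq_empty_of_subset_empty
      rw [← hS']
      exact Set.subset_union_left
    have hEt : E = ⊤ := by
      rw [← Scheme.IdealSheafData.support_eq_bot_iff]
      apply SetLike.coe_injective
      apply Set.eq_empty_of_subset_empty
      rw [← hS']
      exact Set.subset_union_right
    refine ⟨1, 1, by simp, fun U => ?_⟩
    rw [hDt, hEt]
  obtain ⟨x₀, hx₀⟩ := hS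
  choose U hxU m n hne heq using hloc
  have hrel : ∀ x, Rel D E (m x) (n x) x := fun x => ⟨U x, hxU x, heq x⟩
  have hloc' : ∀ x : X, ∃ a b : ℕ, (a, b) ≠ (0, 0) ∧ Rel D E a b x :=
    fun x => ⟨m x, n x, hne x, hrel x⟩
  have hpar : ∀ x ∈ (D.support : Set X) ∪ (E.support : Set X), m x * n x₀ = m x₀ * n x :=
    fun x hx => rel_par_fixed D E hD hE hconn hloc' x₀ hx₀ (hrel x₀) x hx (hne x) (hrel x)
  have hScl : IsClosed ((D.support : Set X) ∪ (E.support : Set X)) :=
    (D.support.isClosed).union (E.support.isClosed)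
  obtain ⟨t, htS, hcov⟩ := hScl.isCompact.elim_nhds_subcover (fun x => ((U x).1 : Set X))
    (fun x _ => (U x).1.isOpen.mem_nhds (hxU x))
  set c : ℕ := ∏ y ∈ t, (m y + n y) with hc
  have hcpos : 0 < c := by
    apply Finset.prod_pos
    intro y _
    rcases Nat.eq_zero_or_pos (m y + n y) with h0 | h0
    · exfalso
      apply hne y
      have h1 : m y = 0 := by omega
      have h2 : n y = 0 := by omega
      rw [h1, h2]
    · exact h0
  have hMN : (c * m x₀, c * n x₀) ≠ (0, 0) := by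
    intro h
    have h1 := (Prod.mk.injEq _ _ _ _ ▸ h : c * m x₀ = 0 ∧ c * n x₀ = 0)
    apply hne x₀
    have e1 : m x₀ = 0 := by
      rcases Nat.eq_zero_or_pos (m x₀) with h0 | h0
      · exact h0
      · exfalso
        have := Nat.mul_pos hcpos h0
        omega
    have e2 : n x₀ = 0 := by
      rcases Nat.eq_zero_or_pos (n x₀) with h0 | h0
      · exact h0
      · exfalso
        have := Nat.mul_pos hcpos h0
        omega
    rw [e1, e2]
  have key : ∀ y ∈ t, D.ideal (U y) ^ (c * m x₀) = E.ideal (U y) ^ (c * n x₀) := by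
    intro y hy
    obtain ⟨k, hk⟩ : (m y + n y) ∣ c := Finset.dvd_prod_of_mem (fun y => m y + n y) hy
    have hp := hpar y (htS y hy)
    have h1 : m x₀ * (m y + n y) = m y * (m x₀ + n x₀) := by
      calc m x₀ * (m y + n y) = m x₀ * m y + m x₀ * n y := mul_add _ _ _
        _ = m y * m x₀ + m y * n x₀ := by rw [mul_comm (m x₀) (m y), hp]
        _ = m y * (m x₀ + n x₀) := (mul_add _ _ _).symm
    have h2 : n x₀ * (m y + n y) = n y * (m x₀ + n x₀) := by
      calc n x₀ * (m y + n y) = n x₀ * m y + n x₀ * n y := mul_add _ _ _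
        _ = n y * m x₀ + n y * n x₀ := by
            rw [mul_comm (n x₀) (m y), hp, mul_comm (m x₀) (n y), mul_comm (n x₀) (n y)]
        _ = n y * (m x₀ + n x₀) := (mul_add _ _ _).symm
    have hM : c * m x₀ = m y * ((m x₀ + n x₀) * k) := by
      rw [hk]
      calc (m y + n y) * k * m x₀ = (m x₀ * (m y + n y)) * k := by ring
        _ = (m y * (m x₀ + n x₀)) * k := by rw [h1]
        _ = m y * ((m x₀ + n x₀) * k) := by ring
    have hN : c * n x₀ = n y * ((m x₀ + n x₀) * k) := by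
      rw [hk]
      calc (m y + n y) * k * n x₀ = (n x₀ * (m y + n y)) * k := by ring
        _ = (n y * (m x₀ + n x₀)) * k := by rw [h2]
        _ = n y * ((m x₀ + n x₀) * k) := by ring
    rw [hM, hN, pow_mul (D.ideal (U y)) (m y), heq y, ← pow_mul]
  have hsup : ⨆ V : {V : X.affineOpens // D.ideal V ^ (c * m x₀) = E.ideal V ^ (c * n x₀)},
      (V.1 : X.affineOpens).1 = ⊤ := by
    rw [eq_top_iff]
    intro x _
    rw [Opens.mem_iSup]
    by_cases hxS : x ∈ (D.support : Set X) ∪ (E.support : Set X)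
    · obtain ⟨y, hy, hxy⟩ := Set.mem_iUnion₂.1 (hcov hxS)
      exact ⟨⟨U y, key y hy⟩, hxy⟩
    · have hxD : x ∉ (D.support : Set X) := fun h => hxS (Or.inl h)
      have hxE : x ∉ (E.support : Set X) := fun h => hxS (Or.inr h)
      have h3 : ¬ x ∈ X.zeroLocus (U := (U x).1) (D.ideal (U x)) := fun h =>
        hxD ((Scheme.IdealSheafData.mem_support_iff_of_mem (I := D) (U := U x) (hxU x)).2 h)
      have h4 : ¬ x ∈ X.zeroLocus (U := (U x).1) (E.ideal (U x)) := fun h =>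
        hxE ((Scheme.IdealSheafData.mem_support_iff_of_mem (I := E) (U := U x) (hxU x)).2 h)
      rw [Scheme.mem_zeroLocus_iff] at h3 h4
      push Not at h3 h4
      obtain ⟨f, hf, hxf⟩ := h3
      obtain ⟨f', hf', hxf'⟩ := h4
      have hx' : x ∈ X.basicOpen (f * f') := by
        rw [Scheme.basicOpen_mul]
        exact ⟨hxf, hxf'⟩
      have hu : IsUnit ((X.presheaf.map (homOfLE (X.basicOpen_le (f * f'))).op).hom (f * f')) :=
        X.toRingedSpace.isUnit_res_basicOpen (f * f')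
      have hDV : D.ideal (X.affineBasicOpen (f * f')) = ⊤ := by
        rw [← D.map_ideal_basicOpen (U x) (f * f')]
        exact Ideal.eq_top_of_isUnit_mem _
          (Ideal.mem_map_of_mem _ (Ideal.mul_mem_right f' _ hf)) hu
      have hEV : E.ideal (X.affineBasicOpen (f * f')) = ⊤ := by
        rw [← E.map_ideal_basicOpen (U x) (f * f')]
        exact Ideal.eq_top_of_isUnit_mem _
          (Ideal.mem_map_of_mem _ (Ideal.mul_mem_left _ f hf')) hu
      refine ⟨⟨X.affineBasicOpen (f * f'), ?_⟩, hx'⟩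
      rw [hDV, hEV, Ideal.top_pow, Ideal.top_pow]
  have hfin : D ^ (c * m x₀) = E ^ (c * n x₀) :=
    Scheme.IdealSheafData.ext_of_iSup_eq_top
      (fun V : {V : X.affineOpens // D.ideal V ^ (c * m x₀) = E.ideal V ^ (c * n x₀)} => V.1)
      hsup (fun V => V.2)
  exact ⟨c * m x₀, c * n x₀, hMN, fun W => congrFun (congrArg Scheme.IdealSheafData.ideal hfin) W⟩

end Groth.Agent.LD.CDivPow
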