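import Mathlib
import Groth.Prelude.Def_CInt
import Groth.Agent.Lib.Helper2.IdealComap
import Groth.Agent.Lib.Helper1.Stein
import Groth.Agent.Lib.Lead.CDiv.PowRel

/-! # Effective Cartier divisors on a normal scheme are determined by their pullback along a proper
schematically dominant morphism (S17733). -/

set_option autoImplicit false
noncomputable section
universe u
open CategoryTheory AlgebraicGeometry TopologicalSpace Opposite

namespace Groth.Agent.LD.CDivPow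

section Ring

/-- in an integrally closed domain, a root `b` of the scaled polynomial `p.scaleRoots a` of a monic
polynomial is a multiple of `a`. -/
lemma dvd_of_eval_scaleRoots_eq_zero {R : Type*} [CommRing R] [IsDomain R] [IsIntegrallyClosed R]
    (a b : R) (ha : a ≠ 0) (p : Polynomial R) (hp : p.Monic)
    (h : (p.scaleRoots a).eval b = 0) : a ∣ b := by
  let K := FractionRing R
  let ι : R →+* K := algebraMap R K
  have hιa : ι a ≠ 0 := (map_ne_zero_iff ι (IsFractionRing.injective R K)).2 ha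
  have h2 : ι a * (ι b / ι a) = ι b := by rw [mul_comm, div_mul_cancel₀ _ hιa]
  have h1 := Polynomial.scaleRoots_eval₂_mul (p := p) ι (ι b / ι a) a
  rw [h2, Polynomial.eval₂_at_apply, h, map_zero] at h1
  have h3 : Polynomial.eval₂ ι (ι b / ι a) p = 0 :=
    (mul_eq_zero.1 h1.symm).resolve_left (pow_ne_zero _ hιa)
  have hzint : IsIntegral R (ι b / ι a) := ⟨p, hp, h3⟩
  obtain ⟨r, hr⟩ := IsIntegrallyClosed.isIntegral_iff.1 hzint
  refine ⟨r, ?_⟩
  apply IsFractionRing.injective R K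
  rw [map_mul, hr]
  exact h2.symm

end Ring

variable {S S' : Scheme.{u}}

/-- a function on `S` invertible on `V ∩ U` pulls back to a non-zero-divisor on every open of
`f⁻¹ V`, when `f⁻¹ U` is schematically dense. -/
lemma appLE_mem_nonZeroDivisors (f : S' ⟶ S) (U : S.Opens)
    (hU' : CInt.IsSchematicallyDense (f ⁻¹ᵁ U)) (V : S.Opens) (a : Γ(S, V))
    (ha : V ⊓ U ≤ S.basicOpen a) (O : S'.Opens) (hO : O ≤ f ⁻¹ᵁ V) :
    (f.appLE V O hO).hom a ∈ nonZeroDivisors Γ(S', O) := by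
  rw [mem_nonZeroDivisors_iff_right]
  intro t ht
  have hle : O ⊓ f ⁻¹ᵁ U ≤ f ⁻¹ᵁ V := inf_le_left.trans hO
  have hunit : IsUnit ((f.appLE V (O ⊓ f ⁻¹ᵁ U) hle).hom a) := by
    apply S'.toRingedSpace.isUnit_of_isUnit_germ
    intro y hy
    have hyV : y ∈ f ⁻¹ᵁ V := hle hy
    have hyb : y ∈ S'.basicOpen ((f.app V).hom a) := by
      rw [← Scheme.preimage_basicOpen]
      exact ha ⟨hO hy.1, hy.2⟩
    have h3 := (Scheme.mem_basicOpen S' ((f.app V).hom a) y hyV).1 hyb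
    have h4 : S'.presheaf.germ (O ⊓ f ⁻¹ᵁ U) y hy ((f.appLE V (O ⊓ f ⁻¹ᵁ U) hle).hom a) =
        S'.presheaf.germ (f ⁻¹ᵁ V) y hyV ((f.app V).hom a) :=
      S'.presheaf.germ_res_apply (homOfLE hle) y hy ((f.app V).hom a)
    exact (congrArg IsUnit h4).mpr h3
  have e1 : (S'.presheaf.map (homOfLE (inf_le_left : O ⊓ f ⁻¹ᵁ U ≤ O)).op).hom
      ((f.appLE V O hO).hom a) = (f.appLE V (O ⊓ f ⁻¹ᵁ U) hle).hom a :=
    congrArg (fun φ => φ.hom a)
      (f.appLE_map hO (homOfLE (inf_le_left : O ⊓ f ⁻¹ᵁ U ≤ O)).op)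
  apply hU' O
  have h5 := congrArg (S'.presheaf.map (homOfLE (inf_le_left : O ⊓ f ⁻¹ᵁ U ≤ O)).op).hom ht
  rw [map_mul, e1, map_zero] at h5
  have h6 := (hunit.mul_left_eq_zero).1 h5
  exact h6.trans (map_zero _).symm

lemma le_basicOpen_of_support (D : S.IdealSheafData) (U : S.Opens)
    (hDU : (D.support : Set S) ⊆ (U : Set S)ᶜ) (V : S.affineOpens) (a : Γ(S, V.1))
    (hDa : D.ideal V = Ideal.span {a}) : V.1 ⊓ U ≤ S.basicOpen a := by
  intro x hx
  have hxD : x ∉ (D.support : Set S) := fun h => hDU h hx.2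
  have h3 : ¬ x ∈ S.zeroLocus (U := V.1) (D.ideal V) := fun h =>
    hxD ((Scheme.IdealSheafData.mem_support_iff_of_mem (I := D) (U := V) hx.1).2 h)
  rw [Scheme.mem_zeroLocus_iff] at h3
  push Not at h3
  obtain ⟨g, hg, hxg⟩ := h3
  rw [hDa] at hg
  have hg' : g ∈ Ideal.span {a} := hg
  obtain ⟨r, rfl⟩ := Ideal.mem_span_singleton'.1 hg'
  rw [Scheme.basicOpen_mul] at hxg
  exact hxg.2

/-- gluing the local quotients `f^♯ b / f^♯ a`. -/
lemma exists_section_mul (f : S' ⟶ S) (V : S.affineOpens) (D E : S.IdealSheafData)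
    (h : D.comap f = E.comap f) (a b : Γ(S, V.1)) (hDa : D.ideal V = Ideal.span {a})
    (hb : b ∈ E.ideal V)
    (hnzd : ∀ (O : S'.Opens) (hO : O ≤ f ⁻¹ᵁ V.1),
      (f.appLE V.1 O hO).hom a ∈ nonZeroDivisors Γ(S', O)) :
    ∃ u : Γ(S', f ⁻¹ᵁ V.1), (f.app V.1).hom b = u * (f.app V.1).hom a := by
  have hloc : ∀ (W : S'.affineOpens) (hW : W.1 ≤ f ⁻¹ᵁ V.1),
      ∃ c : Γ(S', W.1), (f.appLE V.1 W.1 hW).hom b = c * (f.appLE V.1 W.1 hW).hom a := by
    intro W hW
    have h1 : (f.appLE V.1 W.1 hW).hom b ∈ (E.comap f).ideal W := by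
      rw [Groth.Agent.H2.FSchAff.ideal_comap f E W V hW]
      exact Ideal.mem_map_of_mem _ hb
    rw [← h, Groth.Agent.H2.FSchAff.ideal_comap f D W V hW, hDa, Ideal.map_span,
      Set.image_singleton] at h1
    obtain ⟨c, hc⟩ := Ideal.mem_span_singleton'.1 h1
    exact ⟨c, hc.symm⟩
  choose c hc using hloc
  let ι := {W : S'.affineOpens // W.1 ≤ f ⁻¹ᵁ V.1}
  let Uι : ι → S'.Opens := fun i => i.1.1
  have hcover : f ⁻¹ᵁ V.1 ≤ iSup Uι := by
    intro y hy
    obtain ⟨W, hW, hyW, hWV⟩ :=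
      exists_isAffineOpen_mem_and_subset (x := y) (U := f ⁻¹ᵁ V.1) hy
    exact Opens.mem_iSup.2 ⟨⟨⟨W, hW⟩, hWV⟩, hyW⟩
  have key : ∀ (i : ι) (O : S'.Opens) (k : O ⟶ Uι i),
      (S'.presheaf.map k.op).hom (c i.1 i.2) * (f.appLE V.1 O (k.le.trans i.2)).hom a =
        (f.appLE V.1 O (k.le.trans i.2)).hom b := by
    intro i O k
    have ea : (S'.presheaf.map k.op).hom ((f.appLE V.1 (Uι i) i.2).hom a) =
        (f.appLE V.1 O (k.le.trans i.2)).hom a :=
      congrArg (fun φ => φ.hom a) (f.appLE_map i.2 k.op)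
    have eb : (S'.presheaf.map k.op).hom ((f.appLE V.1 (Uι i) i.2).hom b) =
        (f.appLE V.1 O (k.le.trans i.2)).hom b :=
      congrArg (fun φ => φ.hom b) (f.appLE_map i.2 k.op)
    have h2 := congrArg (S'.presheaf.map k.op).hom (hc i.1 i.2)
    rw [map_mul] at h2
    rw [← ea, ← eb]
    exact h2.symm
  have hcompat : TopCat.Presheaf.IsCompatible S'.presheaf Uι (fun i => c i.1 i.2) := by
    intro i j
    have hO : Uι i ⊓ Uι j ≤ f ⁻¹ᵁ V.1 := inf_le_left.trans i.2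
    have k1 := key i _ (Opens.infLELeft (Uι i) (Uι j))
    have k2 := key j _ (Opens.infLERight (Uι i) (Uι j))
    exact (mul_cancel_right_mem_nonZeroDivisors (hnzd _ hO)).1 (k1.trans k2.symm)
  obtain ⟨(u : Γ(S', f ⁻¹ᵁ V.1)), hu, -⟩ := S'.sheaf.existsUnique_gluing' Uι (f ⁻¹ᵁ V.1) (fun i => homOfLE i.2)
    hcover (fun i => c i.1 i.2) hcompat
  refine ⟨u, ?_⟩
  apply S'.sheaf.eq_of_locally_eq' Uι (f ⁻¹ᵁ V.1) (fun i => homOfLE i.2) hcover
  intro i
  have hb' : (S'.presheaf.map (homOfLE i.2).op).hom ((f.app V.1).hom b) =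
      (f.appLE V.1 (Uι i) i.2).hom b := rfl
  have ha' : (S'.presheaf.map (homOfLE i.2).op).hom ((f.app V.1).hom a) =
      (f.appLE V.1 (Uι i) i.2).hom a := rfl
  have hui : (S'.presheaf.map (homOfLE i.2).op).hom u = c i.1 i.2 := hu i
  show (S'.presheaf.map (homOfLE i.2).op).hom ((f.app V.1).hom b) =
    (S'.presheaf.map (homOfLE i.2).op).hom (u * (f.app V.1).hom a)
  rw [map_mul, hb', ha', hui]
  exact hc i.1 i.2

/-- the local inclusion: where `D` is generated by a non-zero-divisor, `E ≤ D`. -/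
lemma ideal_le_of_comap_eq
    (hnorm : ∀ x : S, IsDomain (S.presheaf.stalk x) ∧ IsIntegrallyClosed (S.presheaf.stalk x))
    (f : S' ⟶ S) [IsProper f] (hdom : f.ker = ⊥)
    (U : S.Opens) (hU' : CInt.IsSchematicallyDense (f ⁻¹ᵁ U))
    (D E : S.IdealSheafData) (hDU : (D.support : Set S) ⊆ (U : Set S)ᶜ)
    (h : D.comap f = E.comap f)
    (V : S.affineOpens) (a : Γ(S, V.1)) (ha : a ∈ nonZeroDivisors Γ(S, V.1))
    (hDa : D.ideal V = Ideal.span {a}) :
    E.ideal V ≤ D.ideal V := by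
  intro b hb
  rw [hDa]
  have hVU := le_basicOpen_of_support D U hDU V a hDa
  have hnzd : ∀ (O : S'.Opens) (hO : O ≤ f ⁻¹ᵁ V.1),
      (f.appLE V.1 O hO).hom a ∈ nonZeroDivisors Γ(S', O) :=
    fun O hO => appLE_mem_nonZeroDivisors f U hU' V.1 a hVU O hO
  obtain ⟨u, hu⟩ := exists_section_mul f V D E h a b hDa hb hnzd
  obtain ⟨p, hp, hpu⟩ := Groth.Agent.H1.isIntegral_app_of_universallyClosed f V.2 u
  have hinj : Function.Injective (f.app V.1).hom := by
    rw [RingHom.injective_iff_ker_eq_bot, ← Scheme.Hom.ker_apply f V, hdom]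
    rfl
  have h1 := Polynomial.scaleRoots_eval₂_eq_zero (f.app V.1).hom (s := a) hpu
  rw [mul_comm, ← hu, Polynomial.eval₂_at_apply] at h1
  have h2 : (p.scaleRoots a).eval b = 0 := hinj (by rw [h1, map_zero])
  rw [V.2.mem_ideal_iff]
  intro x hx
  haveI := (hnorm x).1
  haveI := (hnorm x).2
  rw [Ideal.map_span, Set.image_singleton, Ideal.mem_span_singleton]
  have hga : (S.presheaf.germ V.1 x hx).hom a ≠ 0 :=
    nonZeroDivisors.ne_zero (germ_mem_nonZeroDivisors x hx a ha)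
  refine dvd_of_eval_scaleRoots_eq_zero _ _ hga (p.map (S.presheaf.germ V.1 x hx).hom)
    (hp.map _) ?_
  rw [← Polynomial.map_scaleRoots p a (S.presheaf.germ V.1 x hx).hom
    (by rw [hp.leadingCoeff, map_one]; exact one_ne_zero), Polynomial.eval_map,
    Polynomial.eval₂_at_apply, h2, map_zero]

/-- **S17733.** -/
theorem eq_of_comap_eq
    (hnorm : ∀ x : S, IsDomain (S.presheaf.stalk x) ∧ IsIntegrallyClosed (S.presheaf.stalk x))
    (f : S' ⟶ S) [IsProper f] (hdom : f.ker = ⊥)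
    (U : S.Opens) (hU' : CInt.IsSchematicallyDense (f ⁻¹ᵁ U))
    (D E : S.IdealSheafData)
    (hD : (∀ x : S, ∃ U : S.affineOpens, x ∈ (U : S.Opens) ∧ ∃ g : Γ(S, U),
      g ∈ nonZeroDivisors Γ(S, U) ∧ D.ideal U = Ideal.span {g}))
    (hE : (∀ x : S, ∃ U : S.affineOpens, x ∈ (U : S.Opens) ∧ ∃ g : Γ(S, U),
      g ∈ nonZeroDivisors Γ(S, U) ∧ E.ideal U = Ideal.span {g}))
    (hDU : (D.support : Set S) ⊆ (U : Set S)ᶜ) (hEU : (E.support : Set S) ⊆ (U : Set S)ᶜ)
    (h : D.comap f = E.comap f) : D = E := by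
  apply le_antisymm
  · choose W hxW g hg hWg using hE
    exact Scheme.IdealSheafData.le_of_iSup_eq_top W
      (eq_top_iff.2 fun x _ => Opens.mem_iSup.2 ⟨x, hxW x⟩)
      (fun x => ideal_le_of_comap_eq hnorm f hdom U hU' E D hEU h.symm (W x) (g x) (hg x) (hWg x))
  · choose W hxW g hg hWg using hD
    exact Scheme.IdealSheafData.le_of_iSup_eq_top W
      (eq_top_iff.2 fun x _ => Opens.mem_iSup.2 ⟨x, hxW x⟩)
      (fun x => ideal_le_of_comap_eq hnorm f hdom U hU' D E hDU h (W x) (g x) (hg x) (hWg x))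

end Groth.Agent.LD.CDivPow
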